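import Mathlib.AlgebraicGeometry.Morphisms.Finite
import Mathlib.AlgebraicGeometry.Limits
import Mathlib.RingTheory.Localization.Integral
import Mathlib.RingTheory.Adjoin.FG

/-! Gluing finite surjective morphisms given over the members of an open covering of an affine scheme
into a single finite surjective morphism. -/

set_option autoImplicit false

open AlgebraicGeometry CategoryTheory CategoryTheory.Limits

namespace Groth.Agent.PhGlue

universe u

/-- A finite algebra over `R[1/h]` is a localization of a finite algebra over `R`. -/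
theorem exists_finite_model {R C : Type u} [CommRing R] [CommRing C] [Algebra R C] (h : R)
    [Algebra (Localization.Away h) C] [IsScalarTower R (Localization.Away h) C]
    [Module.Finite (Localization.Away h) C] :
    ∃ A : Subalgebra R C, Module.Finite R A ∧ IsLocalization.Away (algebraMap R A h) C := by
  classical
  obtain ⟨G, hG⟩ := Module.Finite.fg_top (R := Localization.Away h) (M := C)
  have hint : ∀ x : C, ∃ n : ℕ, IsIntegral R (h ^ n • x) := by
    intro x
    obtain ⟨⟨_, n, rfl⟩, hn⟩ := IsIntegral.exists_multiple_integral_of_isLocalization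
      (R := R) (Submonoid.powers h) (Rₘ := Localization.Away h) x
      (Algebra.IsIntegral.isIntegral x)
    exact ⟨n, hn⟩
  choose n hn using hint
  let A : Subalgebra R C := Algebra.adjoin R ((G.image fun x => h ^ n x • x : Finset C) : Set C)
  have hfin : Module.Finite R A := by
    refine Module.Finite.iff_fg.mpr (fg_adjoin_of_finite (Finset.finite_toSet _) ?_)
    intro y hy
    obtain ⟨x, -, rfl⟩ := Finset.mem_image.mp (Finset.mem_coe.mp hy)
    exact hn x
  have hu : IsUnit (algebraMap R C h) := by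
    rw [IsScalarTower.algebraMap_apply R (Localization.Away h) C]
    exact (IsLocalization.Away.algebraMap_isUnit h).map _
  have hsurj : ∀ c : C, ∃ k : ℕ, h ^ k • c ∈ A := by
    intro c
    have hc : c ∈ Submodule.span (Localization.Away h) (G : Set C) := by rw [hG]; trivial
    induction hc using Submodule.span_induction with
    | mem x hx => exact ⟨n x, Algebra.subset_adjoin (Finset.mem_coe.mpr (Finset.mem_image_of_mem _ hx))⟩
    | zero => exact ⟨0, by rw [smul_zero]; exact A.zero_mem⟩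
    | add x y _ _ hx hy =>
      obtain ⟨k, hk⟩ := hx
      obtain ⟨l, hl⟩ := hy
      refine ⟨k + l, ?_⟩
      rw [smul_add]
      refine A.add_mem ?_ ?_
      · rw [pow_add, mul_comm, mul_smul]; exact A.smul_mem hk _
      · rw [pow_add, mul_smul]; exact A.smul_mem hl _
    | smul a x _ hx =>
      obtain ⟨k, hk⟩ := hx
      obtain ⟨⟨r, ⟨_, l, rfl⟩⟩, hrs⟩ := IsLocalization.surj (Submonoid.powers h) a
      refine ⟨k + l, ?_⟩
      have h1 : h ^ (k + l) • a • x = r • h ^ k • x := by
        rw [← algebraMap_smul (Localization.Away h) (h ^ (k + l)) (a • x),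
          ← algebraMap_smul (Localization.Away h) r (h ^ k • x),
          ← algebraMap_smul (Localization.Away h) (h ^ k) x, smul_smul, smul_smul, pow_add, map_mul,
          ← hrs]
        ring_nf
      rw [h1]
      exact A.smul_mem hk _
  refine ⟨A, hfin, ?_⟩
  refine IsLocalization.Away.mk (algebraMap R A h) ?_ (fun c => ?_) (fun a b hab => ⟨0, ?_⟩)
  · exact hu
  · obtain ⟨k, hk⟩ := hsurj c
    exact ⟨k, ⟨_, hk⟩, by
      change c * algebraMap R C h ^ k = h ^ k • c
      rw [Algebra.smul_def, map_pow, mul_comm]⟩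
  · rw [Subtype.ext_iff.mpr (show (a : C) = b from hab)]

/-- A finite surjective morphism onto a basic open extends to a finite surjective morphism onto the
affine scheme. -/
theorem exists_extension {R : CommRingCat.{u}} (h : R) {W : Scheme.{u}}
    (π : W ⟶ Scheme.Opens.toScheme (X := Spec R) (PrimeSpectrum.basicOpen h)) [IsFinite π]
    [Surjective π] :
    ∃ (Y : Scheme.{u}) (δ : Y ⟶ Spec R) (j : W ⟶ Y), IsFinite δ ∧ Surjective δ ∧
      IsOpenImmersion j ∧ j ≫ δ = π ≫ Scheme.Opens.ι (X := Spec R) (PrimeSpectrum.basicOpen h) ∧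
      ∀ y, δ y ∈ (PrimeSpectrum.basicOpen h : (Spec R).Opens) → y ∈ Set.range j := by
  haveI : IsAffine (Scheme.Opens.toScheme (X := Spec R) (PrimeSpectrum.basicOpen h)) :=
    .of_isIso (basicOpenIsoSpecAway h).hom
  haveI : IsAffine W := isAffine_of_isAffineHom π
  let π' : Spec Γ(W, ⊤) ⟶ Spec (.of (Localization.Away h)) :=
    W.isoSpec.inv ≫ π ≫ (basicOpenIsoSpecAway h).hom
  obtain ⟨ψ, hψ⟩ := Spec.map_surjective π'
  haveI hfin : IsFinite π' := inferInstanceAs (IsFinite (_ ≫ _))
  rw [← hψ, IsFinite.SpecMap_iff] at hfin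
  letI : Algebra (Localization.Away h) Γ(W, ⊤) := ψ.hom.toAlgebra
  letI : Algebra R Γ(W, ⊤) := (ψ.hom.comp (algebraMap R (Localization.Away h))).toAlgebra
  haveI : IsScalarTower R (Localization.Away h) Γ(W, ⊤) := IsScalarTower.of_algebraMap_eq' rfl
  haveI : Module.Finite (Localization.Away h) Γ(W, ⊤) := hfin
  obtain ⟨A, hA, hloc⟩ := exists_finite_model (R := R) (C := Γ(W, ⊤)) h
  let jA : Spec Γ(W, ⊤) ⟶ Spec (.of A) := Spec.map (CommRingCat.ofHom (algebraMap A Γ(W, ⊤)))
  haveI : IsOpenImmersion jA := IsOpenImmersion.of_isLocalization (algebraMap R A h)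
  let δA : Spec (.of A) ⟶ Spec R := Spec.map (CommRingCat.ofHom (algebraMap R A))
  haveI : IsFinite δA := by
    rw [IsFinite.SpecMap_iff, CommRingCat.hom_ofHom, RingHom.finite_algebraMap]
    exact hA
  let δB : Spec (.of (R ⧸ Ideal.span {h})) ⟶ Spec R :=
    Spec.map (CommRingCat.ofHom (Ideal.Quotient.mk (Ideal.span {h})))
  haveI : IsFinite δB := by
    rw [IsFinite.SpecMap_iff, CommRingCat.hom_ofHom]
    exact RingHom.Finite.of_surjective _ Ideal.Quotient.mk_surjective
  let j : W ⟶ Spec (.of A) ⨿ Spec (.of (R ⧸ Ideal.span {h})) := W.isoSpec.hom ≫ jA ≫ coprod.inl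
  have hj : j ≫ coprod.desc δA δB = π ≫ Scheme.Opens.ι (X := Spec R) (PrimeSpectrum.basicOpen h) := by
    have h1 : jA ≫ δA = Spec.map ψ ≫ Spec.map (CommRingCat.ofHom (algebraMap R (Localization.Away h))) := by
      rw [← Spec.map_comp, ← Spec.map_comp]
      rfl
    simp only [j, Category.assoc, coprod.inl_desc, h1, hψ, π', basicOpenIsoSpecAway_hom_SpecMap,
      Iso.hom_inv_id_assoc]
  refine ⟨_, coprod.desc δA δB, j, inferInstance, ⟨fun x => ?_⟩, inferInstance, hj, fun y hy => ?_⟩
  · by_cases hx : x ∈ (PrimeSpectrum.basicOpen h : (Spec R).Opens)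
    · obtain ⟨w, hw⟩ := π.surjective ⟨x, hx⟩
      refine ⟨j w, ?_⟩
      rw [← Scheme.Hom.comp_apply, hj, Scheme.Hom.comp_apply, hw]
      rfl
    · obtain ⟨z, hz⟩ : x ∈ Set.range δB := by
        refine (range_comap_of_surjective _ _
          (Ideal.Quotient.mk_surjective (I := Ideal.span {h}))).symm ▸ ?_
        rw [Ideal.mk_ker]
        refine (PrimeSpectrum.mem_zeroLocus _ _).mpr ?_
        rw [SetLike.coe_subset_coe, Ideal.span_singleton_le_iff_mem]
        exact not_not.mp hx
      refine ⟨(coprod.inr : _ ⟶ Spec (.of A) ⨿ Spec (.of (R ⧸ Ideal.span {h}))) z, ?_⟩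
      rw [← Scheme.Hom.comp_apply, coprod.inr_desc, hz]
  · rcases (isCompl_range_inl_inr (Spec (.of A)) (Spec (.of (R ⧸ Ideal.span {h})))).sup_eq_top.ge
      (Set.mem_univ y) with ⟨a, ha⟩ | ⟨z, hz⟩
    · subst ha
      rw [← Scheme.Hom.comp_apply, coprod.inl_desc] at hy
      obtain ⟨w, hw⟩ : a ∈ Set.range jA :=
        (PrimeSpectrum.localization_away_comap_range Γ(W, ⊤) (algebraMap R A h)).symm ▸ hy
      exact ⟨W.isoSpec.inv w, by
        simp only [j, ← Scheme.Hom.comp_apply, Iso.inv_hom_id_assoc]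
        rw [Scheme.Hom.comp_apply, hw]⟩
    · subst hz
      rw [← Scheme.Hom.comp_apply, coprod.inr_desc] at hy
      exact absurd (show Ideal.Quotient.mk (Ideal.span {h}) h ∈ z.asIdeal by
        rw [Ideal.Quotient.eq_zero_iff_mem.mpr (Ideal.mem_span_singleton_self h)]
        exact z.asIdeal.zero_mem) hy

/-- Glue along a covering by basic opens. -/
theorem exists_glued {R : CommRingCat.{u}} (P : ∀ {Z : Scheme.{u}}, (Z ⟶ Spec R) → Prop)
    (hP : ∀ {Z' Z : Scheme.{u}} (k : Z' ⟶ Z) (z : Z ⟶ Spec R), P z → P (k ≫ z))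
    (hloc : ∀ s : Spec R, ∃ (h : R) (W : Scheme.{u})
      (π : W ⟶ Scheme.Opens.toScheme (X := Spec R) (PrimeSpectrum.basicOpen h)),
        s ∈ (PrimeSpectrum.basicOpen h : (Spec R).Opens) ∧ IsFinite π ∧ Surjective π ∧
          P (π ≫ Scheme.Opens.ι (X := Spec R) (PrimeSpectrum.basicOpen h))) :
    ∃ (Y : Scheme.{u}) (δ : Y ⟶ Spec R), IsFinite δ ∧ Surjective δ ∧
      ∀ y : Y, ∃ O : Y.Opens, y ∈ O ∧ P (O.ι ≫ δ) := by
  classical
  choose h W π hmem hfin hsurj hPW using hloc
  have key : ∀ t : Finset (Spec R), ∃ (Y : Scheme.{u}) (δ : Y ⟶ Spec R), IsFinite δ ∧ Surjective δ ∧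
      ∀ y : Y, (∃ s ∈ t, δ y ∈ (PrimeSpectrum.basicOpen (h s) : (Spec R).Opens)) →
        ∃ O : Y.Opens, y ∈ O ∧ P (O.ι ≫ δ) := by
    intro t
    induction t using Finset.induction_on with
    | empty => exact ⟨_, 𝟙 _, inferInstance, inferInstance, fun y ⟨s, hs, _⟩ => absurd hs (Finset.notMem_empty s)⟩
    | @insert s t _ ih =>
      obtain ⟨Y, δ, hδ, hδs, hY⟩ := ih
      haveI := hfin s
      haveI := hsurj s
      obtain ⟨Y', δ', j, hδ', hδs', hj, hjc, hjr⟩ := exists_extension (h s) (π s)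
      haveI := hδ
      haveI := hδs
      haveI := hδ'
      haveI := hδs'
      refine ⟨pullback δ δ', pullback.fst δ δ' ≫ δ, inferInstance, inferInstance, ?_⟩
      rintro y ⟨s', hs', hy⟩
      rcases Finset.mem_insert.mp hs' with rfl | hs'
      · refine ⟨pullback.snd δ δ' ⁻¹ᵁ j.opensRange, hjr _ ?_, ?_⟩
        · rw [← Scheme.Hom.comp_apply, ← pullback.condition]
          exact hy
        · let k : (pullback.snd δ δ' ⁻¹ᵁ j.opensRange).toScheme ⟶ W s' :=
            (pullback.snd δ δ' ∣_ j.opensRange) ≫ j.isoOpensRange.inv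
          have : (pullback.snd δ δ' ⁻¹ᵁ j.opensRange).ι ≫ pullback.fst δ δ' ≫ δ =
              k ≫ π s' ≫ Scheme.Opens.ι (X := Spec R) (PrimeSpectrum.basicOpen (h s')) := by
            rw [← hjc, pullback.condition]
            simp only [k, Category.assoc, Scheme.Hom.isoOpensRange_inv_comp_assoc, morphismRestrict_ι_assoc]
          rw [this]
          exact hP k _ (hPW s')
      · obtain ⟨O, hyO, hPO⟩ := hY (pullback.fst δ δ' y) ⟨s', hs', hy⟩
        refine ⟨pullback.fst δ δ' ⁻¹ᵁ O, hyO, ?_⟩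
        rw [← morphismRestrict_ι_assoc]
        exact hP _ _ hPO
  have hc : CompactSpace ↥(Spec R) := PrimeSpectrum.compactSpace
  obtain ⟨t, ht⟩ := @CompactSpace.elim_nhds_subcover _ _ hc
    (fun s : Spec R => SetLike.coe (show (Spec R).Opens from PrimeSpectrum.basicOpen (h s)))
    (fun s => (PrimeSpectrum.isOpen_basicOpen).mem_nhds (hmem s))
  obtain ⟨Y, δ, hδ, hδs, hY⟩ := key t
  refine ⟨Y, δ, hδ, hδs, fun y => hY y ?_⟩
  obtain ⟨s, hs, hys⟩ := Set.mem_iUnion₂.mp (ht.ge (Set.mem_univ (δ y)))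
  exact ⟨s, hs, hys⟩

end Groth.Agent.PhGlue
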